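import Groth.Prelude.Def_NonAbH1
import Mathlib.Algebra.Category.Grp.ForgetCorepresentable
import Mathlib.CategoryTheory.Sites.CoversTop.Basic

/-!
# Torsors on a site and their Čech classes

* `isSheaf_forget`, `grp_glue`, `grp_ext`: gluing in a sheaf of groups, arbitrary universes.
* `div`, `hasCechClass_existsUnique`: the class map is well defined.
* `hom_ext_of_coversTop`, `exists_iso_of_hasCechClass`: injectivity of the class map.
-/

universe w' w v u

open CategoryTheory Opposite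

namespace H18NAH1

variable {C : Type u} [Category.{v} C] {J : GrothendieckTopology C}

section Grp

variable (G : Sheaf J GrpCat.{w})

/-- The presheaf of sets underlying a sheaf of groups is a sheaf. -/
theorem isSheaf_forget : Presieve.IsSheaf J (G.obj ⋙ forget GrpCat.{w}) :=
  Presieve.isSheaf_iso J (Functor.isoWhiskerLeft G.obj GrpCat.coyonedaObjIsoForget.{w})
    (G.property _)

variable {G}

theorem grp_ext {X : C} {S : Sieve X} (hS : S ∈ J X) {g g' : G.obj.obj (op X)}
    (h : ∀ ⦃V : C⦄ (f : V ⟶ X), S f → G.obj.map f.op g = G.obj.map f.op g') : g = g' :=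
  ((isSheaf_forget G).isSeparated S hS).ext (fun V f hf => h f hf)

theorem grp_glue {X : C} {S : Sieve X} (hS : S ∈ J X)
    (x : ∀ ⦃V : C⦄ (f : V ⟶ X), S f → G.obj.obj (op V))
    (hx : ∀ ⦃V W : C⦄ (f : V ⟶ X) (k : W ⟶ V) (hf : S f),
      G.obj.map k.op (x f hf) = x (k ≫ f) (S.downward_closed hf k)) :
    ∃ g : G.obj.obj (op X), ∀ ⦃V : C⦄ (f : V ⟶ X) (hf : S f), G.obj.map f.op g = x f hf := by
  let fam : Presieve.FamilyOfElements (G.obj ⋙ forget GrpCat.{w}) S.arrows := fun V f hf => x f hf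
  have hfam : fam.SieveCompatible := fun V W f k hf => (hx f k hf).symm
  obtain ⟨g, hg, -⟩ := isSheaf_forget G S hS fam
    ((Presieve.compatible_iff_sieveCompatible fam).mpr hfam)
  exact ⟨g, fun V f hf => hg f hf⟩

end Grp

section Torsor

variable {G : Sheaf J GrpCat.{w}}

theorem map_comp_apply (P : NonAbH1.GSheaf G) {X Y Z : C} (f : Y ⟶ X) (k : Z ⟶ Y)
    (p : P.P.obj.obj (op X)) : P.P.obj.map (k ≫ f).op p = P.P.obj.map k.op (P.P.obj.map f.op p) := by
  rw [op_comp, P.P.obj.map_comp]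
  rfl

theorem gsheaf_ext (P : NonAbH1.GSheaf G) {X : C} {S : Sieve X} (hS : S ∈ J X)
    {p q : P.P.obj.obj (op X)}
    (h : ∀ ⦃V : C⦄ (f : V ⟶ X), S f → P.P.obj.map f.op p = P.P.obj.map f.op q) : p = q :=
  (((isSheaf_iff_isSheaf_of_type _ _).1 P.P.property).isSeparated S hS).ext h

theorem gsheaf_glue (P : NonAbH1.GSheaf G) {X : C} {S : Sieve X} (hS : S ∈ J X)
    (x : ∀ ⦃V : C⦄ (f : V ⟶ X), S f → P.P.obj.obj (op V))
    (hx : ∀ ⦃V W : C⦄ (f : V ⟶ X) (k : W ⟶ V) (hf : S f),
      P.P.obj.map k.op (x f hf) = x (k ≫ f) (S.downward_closed hf k)) :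
    ∃ p : P.P.obj.obj (op X), ∀ ⦃V : C⦄ (f : V ⟶ X) (hf : S f), P.P.obj.map f.op p = x f hf := by
  let fam : Presieve.FamilyOfElements P.P.obj S.arrows := fun V f hf => x f hf
  have hfam : fam.SieveCompatible := fun V W f k hf => (hx f k hf).symm
  obtain ⟨g, hg, -⟩ := (isSheaf_iff_isSheaf_of_type _ _).1 P.P.property S hS fam
    ((Presieve.compatible_iff_sieveCompatible fam).mpr hfam)
  exact ⟨g, fun V f hf => hg f hf⟩

variable {P : NonAbH1.GSheaf G} (hP : P.IsPseudoTorsor)

/-- The unique section of the group carrying `p` to `q`. -/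
noncomputable def div {U : Cᵒᵖ} (q p : P.P.obj.obj U) : G.obj.obj U := (hP U p q).choose

theorem div_smul {U : Cᵒᵖ} (q p : P.P.obj.obj U) : P.smul (div hP q p) p = q :=
  (hP U p q).choose_spec.1

include hP in
theorem smul_cancel {U : Cᵒᵖ} {g g' : G.obj.obj U} {p : P.P.obj.obj U}
    (h : P.smul g p = P.smul g' p) : g = g' :=
  (hP U p (P.smul g' p)).unique h rfl

variable {I : Type w'} {U : I → C}

/-- The cocycle cut out by a family of sections of a pseudo-torsor. -/
noncomputable def cocycle (s : ∀ i, P.P.obj.obj (op (U i))) :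
    PresheafOfGroups.OneCocycle G.obj U where
  ev i j T a b := div hP (P.P.obj.map a.op (s i)) (P.P.obj.map b.op (s j))
  ev_precomp i j T T' φ a b := by
    apply smul_cancel hP (p := P.P.obj.map (φ ≫ b).op (s j))
    rw [div_smul hP, map_comp_apply, map_comp_apply, ← P.map_smul, div_smul hP]
  ev_trans i j k T a b c := by
    apply smul_cancel hP (p := P.P.obj.map c.op (s k))
    rw [P.mul_smul, div_smul hP, div_smul hP, div_smul hP]

theorem isCocycleOf_cocycle (s : ∀ i, P.P.obj.obj (op (U i))) :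
    P.IsCocycleOf U s (cocycle hP s) :=
  fun _ _ _ _ _ => div_smul hP _ _

include hP in
theorem isCohomologous_of_isCocycleOf {s s' : ∀ i, P.P.obj.obj (op (U i))}
    {γ γ' : PresheafOfGroups.OneCocycle G.obj U} (h : P.IsCocycleOf U s γ)
    (h' : P.IsCocycleOf U s' γ') : γ.IsCohomologous γ' := by
  refine ⟨fun i => div hP (s' i) (s i), fun i j T a b => ?_⟩
  apply smul_cancel hP (p := P.P.obj.map b.op (s j))
  rw [P.mul_smul, h i j a b, P.mul_smul, ← P.map_smul, ← P.map_smul, div_smul hP, div_smul hP]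
  exact (h' i j a b).symm

include hP in
theorem existsUnique_hasCechClass (hU : P.TrivialisedBy U) :
    ∃! c : PresheafOfGroups.H1 G.obj U, P.HasCechClass U c := by
  let s : ∀ i, P.P.obj.obj (op (U i)) := fun i => (hU i).some
  refine ⟨(cocycle hP s).class, ⟨s, _, isCocycleOf_cocycle hP s, rfl⟩, ?_⟩
  rintro c ⟨s', γ', h', rfl⟩
  exact (isCohomologous_of_isCocycleOf hP h' (isCocycleOf_cocycle hP s)).class_eq

variable (hU : J.CoversTop U)

include hU hP in
/-- An equivariant morphism out of a pseudo-torsor is determined by the images of sections on a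
family covering the site. -/
theorem hom_ext_of_coversTop {Q : NonAbH1.GSheaf G} (s : ∀ i, P.P.obj.obj (op (U i)))
    (f g : P ⟶ Q) (h : ∀ i, f.hom.hom.app _ (s i) = g.hom.hom.app _ (s i)) : f = g := by
  refine NonAbH1.GSheaf.hom_ext (Sheaf.hom_ext ?_)
  ext ⟨X⟩ p
  change f.hom.hom.app _ p = g.hom.hom.app _ p
  refine gsheaf_ext Q (hU X) ?_
  rintro V e ⟨i, ⟨a⟩⟩
  rw [← NatTrans.naturality_apply, ← NatTrans.naturality_apply,
    ← div_smul hP (P.P.obj.map e.op p) (P.P.obj.map a.op (s i)), f.map_smul, g.map_smul,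
    NatTrans.naturality_apply, NatTrans.naturality_apply, h i]

variable {Q : NonAbH1.GSheaf G} {γ : PresheafOfGroups.OneCocycle G.obj U}
  {s : ∀ i, P.P.obj.obj (op (U i))} {t : ∀ i, Q.P.obj.obj (op (U i))}

/-- `p` and `q` have the same coordinates with respect to the sections `s` and `t`. -/
def Corr (s : ∀ i, P.P.obj.obj (op (U i))) (t : ∀ i, Q.P.obj.obj (op (U i))) {X : C}
    (p : P.P.obj.obj (op X)) (q : Q.P.obj.obj (op X)) : Prop :=
  ∀ ⦃V : C⦄ (f : V ⟶ X) (i : I) (a : V ⟶ U i) (g : G.obj.obj (op V)),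
    P.smul g (P.P.obj.map a.op (s i)) = P.P.obj.map f.op p →
      Q.smul g (Q.P.obj.map a.op (t i)) = Q.P.obj.map f.op q

include hU hP in
theorem corr_existsUnique (hs : P.IsCocycleOf U s γ) (ht : Q.IsCocycleOf U t γ) {X : C}
    (p : P.P.obj.obj (op X)) : ∃! q : Q.P.obj.obj (op X), Corr s t p q := by
  have indep : ∀ {V : C} {i j : I} (a : V ⟶ U i) (b : V ⟶ U j) (x : P.P.obj.obj (op V)),
      Q.smul (div hP x (P.P.obj.map a.op (s i))) (Q.P.obj.map a.op (t i)) =
        Q.smul (div hP x (P.P.obj.map b.op (s j))) (Q.P.obj.map b.op (t j)) := by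
    intro V i j a b x
    have e : div hP x (P.P.obj.map a.op (s i)) * γ.ev i j a b =
        div hP x (P.P.obj.map b.op (s j)) := by
      apply smul_cancel hP (p := P.P.obj.map b.op (s j))
      rw [P.mul_smul, hs i j a b, div_smul hP, div_smul hP]
    rw [← e, Q.mul_smul, ht i j a b]
  let x : ∀ ⦃V : C⦄ (f : V ⟶ X), Sieve.ofObjects U X f → Q.P.obj.obj (op V) := fun V f hf =>
    Q.smul (div hP (P.P.obj.map f.op p) (P.P.obj.map hf.choose_spec.some.op (s hf.choose)))
      (Q.P.obj.map hf.choose_spec.some.op (t hf.choose))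
  have hx : ∀ {V : C} (f : V ⟶ X) (i : I) (a : V ⟶ U i),
      x f ⟨i, ⟨a⟩⟩ = Q.smul (div hP (P.P.obj.map f.op p) (P.P.obj.map a.op (s i)))
        (Q.P.obj.map a.op (t i)) := fun f i a => indep _ _ _
  obtain ⟨q, hq⟩ := gsheaf_glue Q (hU X) x (by
    intro V W f k hf
    obtain ⟨i, ⟨a⟩⟩ := hf
    rw [hx f i a, hx (k ≫ f) i (k ≫ a), Q.map_smul, ← map_comp_apply]
    congr 1
    apply smul_cancel hP (p := P.P.obj.map (k ≫ a).op (s i))
    rw [div_smul hP, map_comp_apply P f k, map_comp_apply P a k, ← P.map_smul, div_smul hP])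
  refine ⟨q, fun V f i a g hg => ?_, fun q' hq' => gsheaf_ext Q (hU X) ?_⟩
  · rw [hq f ⟨i, ⟨a⟩⟩, hx f i a]
    congr 1
    apply smul_cancel hP (p := P.P.obj.map a.op (s i))
    rw [div_smul hP, hg]
  · rintro V f ⟨i, ⟨a⟩⟩
    rw [hq f ⟨i, ⟨a⟩⟩, hx f i a]
    exact (hq' f i a _ (div_smul hP _ _)).symm

include hU hP in
theorem exists_hom_of_isCocycleOf (hs : P.IsCocycleOf U s γ) (ht : Q.IsCocycleOf U t γ) :
    ∃ φ : P ⟶ Q, ∀ i, φ.hom.hom.app _ (s i) = t i := by
  have H := fun {X : C} (p : P.P.obj.obj (op X)) => corr_existsUnique hP hU hs ht p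
  let η : P.P.obj ⟶ Q.P.obj :=
    { app := fun X => ↾(fun p => (H p).choose)
      naturality := fun X Y h => by
        ext p
        refine ((H (P.P.obj.map h p)).unique (H (P.P.obj.map h p)).choose_spec.1 ?_)
        intro V f i a g hg
        have := (H p).choose_spec.1 (f ≫ h.unop) i a g (by
          rw [hg, map_comp_apply]
          rfl)
        rw [this, map_comp_apply]
        rfl }
  refine ⟨⟨⟨η⟩, fun {X} g p => ?_⟩, fun i => ?_⟩
  · refine (H (P.smul g p)).unique (H (P.smul g p)).choose_spec.1 ?_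
    intro V f i a g' hg'
    rw [P.map_smul] at hg'
    have := (H p).choose_spec.1 f i a ((G.obj.map f.op g)⁻¹ * g') (by
      rw [P.mul_smul, hg', ← P.mul_smul, inv_mul_cancel, P.one_smul])
    rw [Q.map_smul]
    refine Eq.trans ?_ (congrArg (Q.smul (G.obj.map f.op g)) this)
    rw [← Q.mul_smul, mul_inv_cancel_left]
  · refine (H (s i)).unique (H (s i)).choose_spec.1 ?_
    intro V f j a g hg
    have e : g = γ.ev i j f a := by
      apply smul_cancel hP (p := P.P.obj.map a.op (s j))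
      rw [hg, hs i j f a]
    rw [e, ht i j f a]

end Torsor

variable {G : Sheaf J GrpCat.{w}} {I : Type w'} {U : I → C}

/-- Torsors with a common Čech class on a family covering the site are isomorphic. -/
theorem exists_iso_of_hasCechClass (hU : J.CoversTop U) {P Q : NonAbH1.GSheaf G}
    (hP : P.IsPseudoTorsor) (hQ : Q.IsPseudoTorsor) (c : PresheafOfGroups.H1 G.obj U)
    (hPc : P.HasCechClass U c) (hQc : Q.HasCechClass U c) : Nonempty (P ≅ Q) := by
  obtain ⟨s, γ, hs, rfl⟩ := hPc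
  obtain ⟨t, δ, ht, hδ⟩ := hQc
  obtain ⟨α, hα⟩ := (PresheafOfGroups.OneCocycle.class_eq_iff _ _).1 hδ.symm
  let t' : ∀ i, Q.P.obj.obj (op (U i)) := fun i => Q.smul (α i)⁻¹ (t i)
  have ht' : Q.IsCocycleOf U t' γ := by
    intro i j T a b
    have e : γ.ev i j a b * (G.obj.map b.op (α j))⁻¹ = (G.obj.map a.op (α i))⁻¹ * δ.ev i j a b := by
      rw [mul_inv_eq_iff_eq_mul, mul_assoc, eq_inv_mul_iff_mul_eq]
      exact hα i j a b
    simp only [t', Q.map_smul, map_inv]
    rw [← Q.mul_smul, e, Q.mul_smul, ht i j a b]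
  obtain ⟨φ, hφ⟩ := exists_hom_of_isCocycleOf hP hU hs ht'
  obtain ⟨ψ, hψ⟩ := exists_hom_of_isCocycleOf hQ hU ht' hs
  exact ⟨⟨φ, ψ, hom_ext_of_coversTop hP hU s _ _ (fun i => by
      change ψ.hom.hom.app _ (φ.hom.hom.app _ (s i)) = s i
      rw [hφ, hψ]),
    hom_ext_of_coversTop hQ hU t' _ _ (fun i => by
      change φ.hom.hom.app _ (ψ.hom.hom.app _ (t' i)) = t' i
      rw [hψ, hφ])⟩⟩

end H18NAH1
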