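import Groth.Agent.H18NAH1.Basic

/-!
# The boundary of a section of a quotient sheaf `G/F`

The sheaf of local liftings of a global section, and exactness at `H⁰(G/F)` and `H¹(F)`.
-/

universe w v u

open CategoryTheory Opposite
open NonAbH1.GSheaf (uSh toGrp ofGrp)

namespace H18NAH1

variable {C : Type u} [Category.{v} C] {J : GrothendieckTopology C}
  [J.HasSheafCompose (forget GrpCat.{w})] {F G : Sheaf J GrpCat.{w}}

theorem toGrp_map {X Y : Cᵒᵖ} (h : X ⟶ Y) (g : (uSh G).obj.obj X) :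
    toGrp ((uSh G).obj.map h g) = G.obj.map h (toGrp g) :=
  rfl

theorem toGrp_naturality {T : NonAbH1.GSheaf F} (ι : T.P ⟶ uSh G) {X Y : Cᵒᵖ} (h : X ⟶ Y)
    (t : T.P.obj.obj X) :
    toGrp (ι.hom.app Y (T.P.obj.map h t)) = G.obj.map h (toGrp (ι.hom.app X t)) :=
  congrArg toGrp (NatTrans.naturality_apply ι.hom h t)

theorem hom_naturality {T : NonAbH1.GSheaf F} (u : F ⟶ G) {X Y : Cᵒᵖ} (h : X ⟶ Y)
    (f : F.obj.obj X) : u.hom.app Y (F.obj.map h f) = G.obj.map h (u.hom.app X f) :=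
  NatTrans.naturality_apply u.hom h f

variable {u : F ⟶ G} {Q : NonAbH1.GSheaf G} {π : NonAbH1.GSheaf.trivial G ⟶ Q}

theorem pi_naturality {X Y : Cᵒᵖ} (h : X ⟶ Y) (g : G.obj.obj X) :
    π.hom.hom.app Y (ofGrp (G.obj.map h g)) = Q.P.obj.map h (π.hom.hom.app X (ofGrp g)) :=
  NatTrans.naturality_apply π.hom.hom h (ofGrp g)

theorem pi_mul {X : Cᵒᵖ} (g g' : G.obj.obj X) :
    π.hom.hom.app X (ofGrp (g * g')) = Q.smul g (π.hom.hom.app X (ofGrp g')) :=
  π.map_smul g (ofGrp g')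

/-- The sieve of morphisms over whose source `T` has a section. -/
def sieveOf (T : NonAbH1.GSheaf F) (X : C) : Sieve X where
  arrows V _ := Nonempty (T.P.obj.obj (op V))
  downward_closed := fun {_ _ _} h g => h.map (fun t => T.P.obj.map g.op t)

theorem sieveOf_mem {T : NonAbH1.GSheaf F} (hT : T.LocallyNonempty) (X : C) :
    sieveOf T X ∈ J X := by
  obtain ⟨S, hS, hS'⟩ := hT X
  exact J.superset_covering (fun V f hf => hS' f hf) hS

variable (hu : ∀ X : Cᵒᵖ, Function.Injective (u.hom.app X))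
  (hQ : NonAbH1.GSheaf.IsQuotientBy u π)

include hu hQ in
theorem isTorsor_of_isFibreOver {c : Q.P.obj.sections} {T : NonAbH1.GSheaf F}
    (hT : NonAbH1.GSheaf.IsFibreOver u π c T) : T.IsTorsor := by
  obtain ⟨ι, hι, hfib, heq⟩ := hT
  refine ⟨fun X t t' => ?_, fun X => ?_⟩
  · have e : π.hom.hom.app X (ofGrp (toGrp (ι.hom.app X t))) =
        π.hom.hom.app X (ofGrp (toGrp (ι.hom.app X t'))) :=
      ((hfib X _).1 ⟨t, rfl⟩).trans ((hfib X _).1 ⟨t', rfl⟩).symm
    obtain ⟨f, hf⟩ := (hQ.1 X _ _).1 e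
    refine ⟨f⁻¹, hι X ?_, fun f' hf' => ?_⟩
    · change toGrp (ι.hom.app X (T.smul f⁻¹ t)) = toGrp (ι.hom.app X t')
      rw [heq, map_inv, inv_inv, hf]
    · have := heq X f' t
      rw [hf', hf, mul_right_inj] at this
      rw [eq_inv_iff_mul_eq_one, ← map_eq_one_iff _ (hu X), map_mul, this, mul_inv_cancel]
  · obtain ⟨S, hS, hS'⟩ := hQ.2 X (c.1 (op X))
    refine ⟨S, hS, fun V a ha => ?_⟩
    obtain ⟨g, hg⟩ := hS' a ha
    exact ⟨((hfib (op V) g).2 (hg.trans (c.2 a.op))).choose⟩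

theorem exists_hom_of_translate {c c' : Q.P.obj.sections} {T T' : NonAbH1.GSheaf F}
    (hT : NonAbH1.GSheaf.IsFibreOver u π c T) (hT' : NonAbH1.GSheaf.IsFibreOver u π c' T')
    (g : (uSh G).obj.sections) (hg : ∀ X, Q.smul (toGrp (g.1 X)) (c.1 X) = c'.1 X) :
    Nonempty (T ≅ T') := by
  suffices H : ∀ {c c' : Q.P.obj.sections} {T T' : NonAbH1.GSheaf F}
      (ι : T.P ⟶ uSh G) (ι' : T'.P ⟶ uSh G)
      (_ : ∀ (X : Cᵒᵖ) (g : G.obj.obj X),
        (∃ t, toGrp (ι.hom.app X t) = g) → π.hom.hom.app X (ofGrp g) = c.1 X)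
      (_ : ∀ (X : Cᵒᵖ) (f : F.obj.obj X) (t : T.P.obj.obj X),
        toGrp (ι.hom.app X (T.smul f t)) = toGrp (ι.hom.app X t) * (u.hom.app X f)⁻¹)
      (_ : ∀ X : Cᵒᵖ, Function.Injective (ι'.hom.app X))
      (_ : ∀ (X : Cᵒᵖ) (g : G.obj.obj X),
        π.hom.hom.app X (ofGrp g) = c'.1 X → ∃ t, toGrp (ι'.hom.app X t) = g)
      (_ : ∀ (X : Cᵒᵖ) (f : F.obj.obj X) (t : T'.P.obj.obj X),
        toGrp (ι'.hom.app X (T'.smul f t)) = toGrp (ι'.hom.app X t) * (u.hom.app X f)⁻¹)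
      (g : ∀ X, G.obj.obj X)
      (_ : ∀ {X Y : Cᵒᵖ} (h : X ⟶ Y), G.obj.map h (g X) = g Y)
      (_ : ∀ X, Q.smul (g X) (c.1 X) = c'.1 X),
      ∃ φ : T ⟶ T', ∀ X t, toGrp (ι'.hom.app X (φ.hom.hom.app X t)) =
        g X * toGrp (ι.hom.app X t) by
    obtain ⟨ι, hι, hfib, heq⟩ := hT
    obtain ⟨ι', hι', hfib', heq'⟩ := hT'
    obtain ⟨φ, hφ⟩ := H ι ι' (fun X g => (hfib X g).1) heq hι' (fun X g => (hfib' X g).2) heq'
      (fun X => toGrp (g.1 X)) (fun h => g.2 h) hg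
    obtain ⟨ψ, hψ⟩ := H ι' ι (fun X g => (hfib' X g).1) heq' hι (fun X g => (hfib X g).2) heq
      (fun X => (toGrp (g.1 X))⁻¹)
      (fun h => by rw [map_inv]; exact congrArg _ (g.2 h))
      (fun X => by rw [← hg, ← Q.mul_smul, inv_mul_cancel, Q.one_smul])
    refine ⟨⟨φ, ψ, NonAbH1.GSheaf.hom_ext (Sheaf.hom_ext ?_),
      NonAbH1.GSheaf.hom_ext (Sheaf.hom_ext ?_)⟩⟩
    · ext X t
      change ψ.hom.hom.app X (φ.hom.hom.app X t) = t
      refine hι X ?_
      change toGrp (ι.hom.app X (ψ.hom.hom.app X (φ.hom.hom.app X t))) = toGrp (ι.hom.app X t)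
      rw [hψ, hφ, inv_mul_cancel_left]
    · ext X t
      change φ.hom.hom.app X (ψ.hom.hom.app X t) = t
      refine hι' X ?_
      change toGrp (ι'.hom.app X (φ.hom.hom.app X (ψ.hom.hom.app X t))) = toGrp (ι'.hom.app X t)
      rw [hφ, hψ, mul_inv_cancel_left]
  intro c c' T T' ι ι' hfib heq hι' hfib' heq' g hgn hg
  have H : ∀ X t, ∃ t', toGrp (ι'.hom.app X t') = g X * toGrp (ι.hom.app X t) := fun X t =>
    hfib' X _ (by rw [pi_mul, hfib X _ ⟨t, rfl⟩, hg])
  let η : T.P.obj ⟶ T'.P.obj :=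
    { app := fun X => ↾(fun t => (H X t).choose)
      naturality := fun X Y h => by
        ext t
        refine hι' Y ?_
        change toGrp (ι'.hom.app Y (H Y (T.P.obj.map h t)).choose) =
          toGrp (ι'.hom.app Y (T'.P.obj.map h (H X t).choose))
        rw [(H Y _).choose_spec, toGrp_naturality ι', (H X t).choose_spec, map_mul, hgn,
          toGrp_naturality] }
  refine ⟨⟨⟨η⟩, fun {X} f t => hι' X ?_⟩, fun X t => (H X t).choose_spec⟩
  change toGrp (ι'.hom.app X (H X (T.smul f t)).choose) =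
    toGrp (ι'.hom.app X (T'.smul f (H X t).choose))
  rw [(H X _).choose_spec, heq', heq, (H X t).choose_spec, mul_assoc]

include hu hQ in
theorem exists_translate_of_iso {c c' : Q.P.obj.sections} {T T' : NonAbH1.GSheaf F}
    (hT : NonAbH1.GSheaf.IsFibreOver u π c T) (hT' : NonAbH1.GSheaf.IsFibreOver u π c' T')
    (φ : T ⟶ T') :
    ∃ g : (uSh G).obj.sections, ∀ X, Q.smul (toGrp (g.1 X)) (c.1 X) = c'.1 X := by
  have hTt := isTorsor_of_isFibreOver hu hQ hT
  obtain ⟨ι, hι, hfib, heq⟩ := hT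
  obtain ⟨ι', hι', hfib', heq'⟩ := hT'
  let d : ∀ (X : Cᵒᵖ), T.P.obj.obj X → G.obj.obj X := fun X t =>
    toGrp (ι'.hom.app X (φ.hom.hom.app X t)) * (toGrp (ι.hom.app X t))⁻¹
  have hd : ∀ X t t', d X t = d X t' := by
    intro X t t'
    obtain ⟨f, rfl, -⟩ := hTt.1 X t t'
    simp only [d]
    rw [φ.map_smul, heq, heq']
    simp [mul_inv_rev, mul_assoc]
  have hdn : ∀ {X Y : Cᵒᵖ} (h : X ⟶ Y) t, G.obj.map h (d X t) = d Y (T.P.obj.map h t) := by
    intro X Y h t
    simp only [d]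
    rw [toGrp_naturality, NatTrans.naturality_apply φ.hom.hom h t, toGrp_naturality, map_mul,
      map_inv]
  have H : ∀ X : C, ∃! g : G.obj.obj (op X), ∀ ⦃V : C⦄ (e : V ⟶ X) (t : T.P.obj.obj (op V)),
      G.obj.map e.op g = d _ t := by
    intro X
    obtain ⟨g, hg⟩ := grp_glue (sieveOf_mem hTt.2 X) (fun V e he => d _ he.some) (by
      intro V W e k he
      rw [hdn]
      exact hd _ _ _)
    refine ⟨g, fun V e t => (hg e ⟨t⟩).trans (hd _ _ _),
      fun g' hg' => grp_ext (sieveOf_mem hTt.2 X) ?_⟩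
    rintro V e ⟨t⟩
    rw [hg' e t, hg e ⟨t⟩]
    exact hd _ _ _
  choose g hg hgu using fun X : C => (H X).exists.elim fun g hg =>
    (⟨g, hg, fun g' hg' => (H X).unique hg' hg⟩ : ∃ g : G.obj.obj (op X),
      (∀ ⦃V : C⦄ (e : V ⟶ X) (t : T.P.obj.obj (op V)), G.obj.map e.op g = d _ t) ∧
      ∀ g' : G.obj.obj (op X),
        (∀ ⦃V : C⦄ (e : V ⟶ X) (t : T.P.obj.obj (op V)), G.obj.map e.op g' = d _ t) → g' = g)
  refine ⟨⟨fun X => ofGrp (g X.unop), fun {X Y} h => ?_⟩, fun X => ?_⟩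
  · refine hgu Y.unop _ (fun V e t => ?_)
    refine Eq.trans ?_ (hg X.unop (e ≫ h.unop) t)
    rw [op_comp, G.obj.map_comp]
    rfl
  · change Q.smul (g X.unop) (c.1 X) = c'.1 X
    refine gsheaf_ext Q (sieveOf_mem hTt.2 X.unop) ?_
    rintro V e ⟨t⟩
    rw [Q.map_smul, hg X.unop e t, c.2, c'.2, ← (hfib _ _).1 ⟨t, rfl⟩, ← pi_mul,
      ← (hfib' _ _).1 ⟨φ.hom.hom.app _ t, rfl⟩]
    simp only [d, inv_mul_cancel_right]

include hu hQ in
theorem exists_isFibreOver (c : Q.P.obj.sections) :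
    ∃ T : NonAbH1.Torsor F, NonAbH1.GSheaf.IsFibreOver u π c T.toGSheaf := by
  let S : Subfunctor (uSh G).obj :=
    { obj := fun X => {g | π.hom.hom.app X g = c.1 X}
      map := fun {X Y} h g hg => by
        change π.hom.hom.app Y ((uSh G).obj.map h g) = c.1 Y
        refine (NatTrans.naturality_apply π.hom.hom h g).trans ?_
        rw [show π.hom.hom.app X g = c.1 X from hg, c.2] }
  have hS : Presieve.IsSheaf J S.toFunctor := by
    intro X R hR x hx
    rw [Presieve.compatible_iff_sieveCompatible] at hx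
    obtain ⟨g, hg⟩ := grp_glue (G := G) hR (fun V f hf => toGrp ((x f hf).1))
      (fun V W f k hf => (congrArg (fun z => toGrp z.1) (hx f k hf)).symm)
    have hgS : π.hom.hom.app (op X) (ofGrp g) = c.1 (op X) := by
      refine gsheaf_ext Q hR (fun V f hf => ?_)
      rw [← pi_naturality, hg f hf, c.2]
      exact (x f hf).2
    refine ⟨⟨ofGrp g, hgS⟩, fun V f hf => Subtype.ext (hg f hf), ?_⟩
    intro y hy
    refine Subtype.ext (grp_ext (G := G) hR fun V f hf => ?_)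
    refine Eq.trans ?_ (hg f hf).symm
    exact congrArg (fun z => toGrp z.1) (hy f hf)
  have stable : ∀ {X : Cᵒᵖ} (f : F.obj.obj X) (g : G.obj.obj X),
      π.hom.hom.app X (ofGrp g) = c.1 X →
        π.hom.hom.app X (ofGrp (g * (u.hom.app X f)⁻¹)) = c.1 X := fun f g hg =>
    ((hQ.1 _ g _).2 ⟨f⁻¹, by rw [map_inv]⟩).symm.trans hg
  let T : NonAbH1.GSheaf F :=
    { P := ⟨S.toFunctor, (isSheaf_iff_isSheaf_of_type _ _).2 hS⟩
      smul := fun {X} f t => ⟨ofGrp (toGrp t.1 * (u.hom.app X f)⁻¹), stable f _ t.2⟩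
      one_smul := fun {X} t => Subtype.ext <| by
        change toGrp t.1 * (u.hom.app X 1)⁻¹ = toGrp t.1
        rw [map_one, inv_one, mul_one]
      mul_smul := fun {X} f f' t => Subtype.ext <| by
        change toGrp t.1 * (u.hom.app X (f * f'))⁻¹ =
          toGrp t.1 * (u.hom.app X f')⁻¹ * (u.hom.app X f)⁻¹
        rw [map_mul, mul_inv_rev, mul_assoc]
      map_smul := fun {X Y} h f t => Subtype.ext <| by
        change G.obj.map h (toGrp t.1 * (u.hom.app X f)⁻¹) =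
          G.obj.map h (toGrp t.1) * (u.hom.app Y (F.obj.map h f))⁻¹
        rw [map_mul, map_inv, NatTrans.naturality_apply u.hom h f] }
  have hfib : NonAbH1.GSheaf.IsFibreOver u π c T :=
    ⟨⟨S.ι⟩, fun X t t' h => Subtype.ext h,
      fun X g => ⟨fun ⟨t, ht⟩ => ht ▸ t.2, fun hg => ⟨⟨ofGrp g, hg⟩, rfl⟩⟩,
      fun X f t => rfl⟩
  exact ⟨⟨T, isTorsor_of_isFibreOver hu hQ hfib⟩, hfib⟩

include hu hQ in
theorem isPushforward_iff_exists_fibre (T : NonAbH1.Torsor F) :
    NonAbH1.GSheaf.IsPushforwardAlong u T.toGSheaf (NonAbH1.GSheaf.trivial G) ↔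
      ∃ c : Q.P.obj.sections, NonAbH1.GSheaf.IsFibreOver u π c T.toGSheaf := by
  constructor
  · rintro ⟨φ, hφ⟩
    have hT := T.isTorsor
    let ι : T.P ⟶ uSh G :=
      ⟨{ app := fun X => ↾(fun t => ofGrp (toGrp (φ.hom.app X t))⁻¹)
         naturality := fun X Y h => by
          ext t
          change (toGrp (φ.hom.app Y (T.P.obj.map h t)))⁻¹ =
            G.obj.map h (toGrp (φ.hom.app X t))⁻¹
          rw [map_inv]
          exact congrArg _ (toGrp_naturality (T := T.toGSheaf) φ h t) }⟩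
    have heq : ∀ (X : Cᵒᵖ) (f : F.obj.obj X) (t : T.P.obj.obj X),
        toGrp (ι.hom.app X (T.smul f t)) = toGrp (ι.hom.app X t) * (u.hom.app X f)⁻¹ := by
      intro X f t
      change (toGrp (φ.hom.app X (T.smul f t)))⁻¹ = (toGrp (φ.hom.app X t))⁻¹ * _
      rw [← mul_inv_rev]
      exact congrArg (fun z => (toGrp z)⁻¹) (hφ X f t)
    have hι : ∀ X, Function.Injective (ι.hom.app X) := by
      intro X t t' e
      obtain ⟨f, rfl, -⟩ := hT.1 X t t'
      have := heq X f t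
      rw [← e, left_eq_mul, inv_eq_one, map_eq_one_iff _ (hu X)] at this
      rw [this, T.one_smul]
    let d : ∀ X : Cᵒᵖ, T.P.obj.obj X → Q.P.obj.obj X := fun X t =>
      π.hom.hom.app X (ofGrp (toGrp (ι.hom.app X t)))
    have hd : ∀ X t t', d X t = d X t' := by
      intro X t t'
      obtain ⟨f, rfl, -⟩ := hT.1 X t t'
      simp only [d]
      rw [heq]
      exact (hQ.1 X _ _).2 ⟨f⁻¹, by rw [map_inv]⟩
    have hdn : ∀ {X Y : Cᵒᵖ} (h : X ⟶ Y) t,
        Q.P.obj.map h (d X t) = d Y (T.P.obj.map h t) := by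
      intro X Y h t
      simp only [d]
      rw [← pi_naturality, toGrp_naturality]
    have H : ∀ X : C, ∃ q : Q.P.obj.obj (op X), ∀ ⦃V : C⦄ (e : V ⟶ X) (t : T.P.obj.obj (op V)),
        Q.P.obj.map e.op q = d _ t := by
      intro X
      obtain ⟨q, hq⟩ := gsheaf_glue Q (sieveOf_mem hT.2 X) (fun V e he => d _ he.some) (by
        intro V W e k he
        rw [hdn]
        exact hd _ _ _)
      exact ⟨q, fun V e t => (hq e ⟨t⟩).trans (hd _ _ _)⟩
    choose q hq using H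
    refine ⟨⟨fun X => q X.unop, fun {X Y} h => ?_⟩, ι, hι, fun X g => ⟨?_, fun hg => ?_⟩, heq⟩
    · refine gsheaf_ext Q (sieveOf_mem hT.2 Y.unop) ?_
      rintro V e ⟨t⟩
      rw [hq Y.unop e t]
      refine Eq.trans ?_ (hq X.unop (e ≫ h.unop) t)
      exact (map_comp_apply Q h.unop e _).symm
    · rintro ⟨t, rfl⟩
      have := hq X.unop (𝟙 _) t
      rw [op_id, Q.P.obj.map_id] at this
      exact this.symm
    · change π.hom.hom.app X (ofGrp g) = q X.unop at hg
      have key : ∀ ⦃V : C⦄ (e : V ⟶ X.unop), sieveOf T.toGSheaf X.unop e →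
          ∃ t, toGrp (ι.hom.app (op V) t) = G.obj.map e.op g := by
        rintro V e ⟨t⟩
        have e1 : d _ t = π.hom.hom.app (op V) (ofGrp (G.obj.map e.op g)) := by
          rw [← hq X.unop e t, ← hg, ← pi_naturality]
        obtain ⟨f, hf⟩ := (hQ.1 _ _ _).1 e1
        exact ⟨T.smul f⁻¹ t, by rw [heq, map_inv, inv_inv, hf]⟩
      choose x hx using key
      obtain ⟨t, ht⟩ := gsheaf_glue T.toGSheaf (sieveOf_mem hT.2 X.unop) x (by
        intro V W e k he
        refine hι _ ?_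
        change toGrp (ι.hom.app _ (T.P.obj.map k.op (x e he))) = toGrp (ι.hom.app _ _)
        rw [toGrp_naturality, hx, hx, op_comp, G.obj.map_comp]
        rfl)
      refine ⟨t, grp_ext (sieveOf_mem hT.2 X.unop) (fun V e he => ?_)⟩
      refine (toGrp_naturality ι e.op t).symm.trans ?_
      rw [ht e he]
      exact hx e he
  · rintro ⟨c, ι, -, -, heq⟩
    refine ⟨⟨{ app := fun X => ↾(fun t => ofGrp (toGrp (ι.hom.app X t))⁻¹)
               naturality := fun X Y h => ?_ }⟩, fun X f t => ?_⟩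
    · ext t
      change (toGrp (ι.hom.app Y (T.P.obj.map h t)))⁻¹ = G.obj.map h (toGrp (ι.hom.app X t))⁻¹
      rw [map_inv]
      exact congrArg _ (toGrp_naturality (T := T.toGSheaf) ι h t)
    · change (toGrp (ι.hom.app X (T.smul f t)))⁻¹ = u.hom.app X f * (toGrp (ι.hom.app X t))⁻¹
      rw [heq, mul_inv_rev, inv_inv]

/-- A torsor with a global section is trivial. -/
theorem isTrivial_of_hasSection (T : NonAbH1.Torsor F) (h : T.HasSection) : T.IsTrivial := by
  obtain ⟨s, hs⟩ := h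
  let a : NonAbH1.GSheaf.trivial F ⟶ T.toGSheaf :=
    ⟨⟨{ app := fun X => ↾(fun f => T.smul (toGrp f) (s X))
        naturality := fun X Y e => by
          ext f
          change T.smul (F.obj.map e (toGrp f)) (s Y) = T.P.obj.map e (T.smul (toGrp f) (s X))
          rw [T.map_smul, hs e] }⟩,
      fun g f => T.mul_smul g (toGrp f) _⟩
  let b : T.toGSheaf ⟶ NonAbH1.GSheaf.trivial F :=
    ⟨⟨{ app := fun X => ↾(fun t => ofGrp (div T.isTorsor.1 t (s X)))
        naturality := fun X Y e => by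
          ext t
          change div T.isTorsor.1 (T.P.obj.map e t) (s Y) =
            F.obj.map e (div T.isTorsor.1 t (s X))
          refine smul_cancel T.isTorsor.1 (p := s Y) ?_
          conv_rhs => rw [← hs e, ← T.map_smul, div_smul]
          rw [div_smul] }⟩,
      fun {X} g t => by
        change div T.isTorsor.1 (T.smul g t) (s X) = g * div T.isTorsor.1 t (s X)
        refine smul_cancel T.isTorsor.1 (p := s X) ?_
        rw [div_smul, T.mul_smul, div_smul]⟩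
  refine ⟨⟨a, b, NonAbH1.GSheaf.hom_ext (Sheaf.hom_ext ?_),
    NonAbH1.GSheaf.hom_ext (Sheaf.hom_ext ?_)⟩⟩
  · ext X f
    change div T.isTorsor.1 (T.smul (toGrp f) (s X)) (s X) = toGrp f
    exact smul_cancel T.isTorsor.1 (div_smul T.isTorsor.1 _ (s X))
  · ext X t
    change T.smul (div T.isTorsor.1 t (s X)) (s X) = t
    exact div_smul _ _ _

theorem cl_eq_one_iff_hasSection (T : NonAbH1.Torsor F) : T.cl = 1 ↔ T.HasSection := by
  constructor
  · intro h
    have key : ∀ P P' : NonAbH1.Torsor F,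
        Relation.EqvGen (fun P P' : NonAbH1.Torsor F => Nonempty (P.toGSheaf ≅ P'.toGSheaf)) P P' →
          Nonempty (P.toGSheaf ≅ P'.toGSheaf) := by
      intro P P' h
      induction h with
      | rel _ _ h => exact h
      | refl _ => exact ⟨Iso.refl _⟩
      | symm _ _ _ h => exact ⟨h.some.symm⟩
      | trans _ _ _ _ _ h₁ h₂ => exact ⟨h₁.some.trans h₂.some⟩
    obtain ⟨φ⟩ := key _ _ (Quot.eqvGen_exact h)
    refine ⟨fun X => φ.inv.hom.hom.app X (ofGrp (1 : F.obj.obj X)), fun {X Y} e => ?_⟩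
    refine (NatTrans.naturality_apply φ.inv.hom.hom e (ofGrp (1 : F.obj.obj X))).symm.trans ?_
    exact congrArg (φ.inv.hom.hom.app Y) (map_one (F.obj.map e).hom)
  · exact fun h => Quot.sound ((isTrivial_of_hasSection T h).map Iso.symm)

include hu hQ in
theorem cl_eq_one_iff_lifts (c : Q.P.obj.sections) (T : NonAbH1.Torsor F)
    (hT : NonAbH1.GSheaf.IsFibreOver u π c T.toGSheaf) :
    T.cl = 1 ↔ ∃ g : (uSh G).obj.sections, ∀ X, π.hom.hom.app X (g.1 X) = c.1 X := by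
  rw [cl_eq_one_iff_hasSection]
  obtain ⟨ι, hι, hfib, -⟩ := hT
  constructor
  · rintro ⟨t, ht⟩
    exact ⟨⟨fun X => ι.hom.app X (t X), fun {X Y} e =>
      (NatTrans.naturality_apply ι.hom e (t X)).symm.trans (congrArg _ (ht e))⟩,
      fun X => (hfib X _).1 ⟨t X, rfl⟩⟩
  · rintro ⟨g, hg⟩
    choose t ht using fun X => (hfib X (toGrp (g.1 X))).2 (hg X)
    refine ⟨t, fun {X Y} e => hι Y ?_⟩
    refine (toGrp_naturality ι e (t X)).trans ?_
    rw [ht X, ← toGrp_map, g.2]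
    exact (ht Y).symm

end H18NAH1
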