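import Groth.Agent.H18NAH1.Boundary
import Mathlib.Algebra.Category.Grp.FilteredColimits
import Mathlib.CategoryTheory.Sites.Point.Basic
import Mathlib.CategoryTheory.Filtered.FinallySmall
import Mathlib.CategoryTheory.Limits.ConcreteCategory.Basic

/-!
# Godement embedding of a sheaf of groups

For a set of points `Φ` of a site, a sheaf of groups maps to the product of the skyscrapers of its
stalks; every torsor under such a product, on every object, has a section.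
-/

universe u

open CategoryTheory CategoryTheory.Limits Opposite

namespace H18NAH1.Godement

variable {C : Type (u + 1)} [Category.{u} C] {J : GrothendieckTopology C} {ι : Type u}
  (Φ : ι → GrothendieckTopology.Point.{u} J)

theorem exists_lift₂ (p : GrothendieckTopology.Point.{u} J) {X Y U : C} (a : X ⟶ U) (b : Y ⟶ U)
    (x : p.fiber.obj X) (y : p.fiber.obj Y) (h : p.fiber.map a x = p.fiber.map b y) :
    ∃ (W : C) (e : W ⟶ X) (f : W ⟶ Y) (w : p.fiber.obj W),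
      p.fiber.map e w = x ∧ p.fiber.map f w = y ∧ e ≫ a = f ≫ b := by
  obtain ⟨⟨W, w⟩, ⟨e, he⟩, ⟨f, hf⟩, -⟩ := IsCofilteredOrEmpty.cone_objs
    (C := p.fiber.Elements) ⟨X, x⟩ ⟨Y, y⟩
  dsimp at e he f hf
  have h1 : p.fiber.map (e ≫ a) w = p.fiber.map a x := by
    rw [Functor.map_comp]; exact congrArg (p.fiber.map a) he
  have h2 : p.fiber.map (f ≫ b) w = p.fiber.map a x := by
    rw [Functor.map_comp, h]; exact congrArg (p.fiber.map b) hf
  obtain ⟨⟨W', w'⟩, ⟨k, hk⟩, hk'⟩ := IsCofilteredOrEmpty.cone_maps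
    (C := p.fiber.Elements) (X := ⟨W, w⟩) (Y := ⟨U, p.fiber.map a x⟩)
    (CategoryOfElements.homMk _ _ (e ≫ a) h1) (CategoryOfElements.homMk _ _ (f ≫ b) h2)
  dsimp at k hk
  refine ⟨W', k ≫ e, k ≫ f, w', ?_, ?_, ?_⟩
  · rw [Functor.map_comp]; exact (congrArg (p.fiber.map e) hk).trans he
  · rw [Functor.map_comp]; exact (congrArg (p.fiber.map f) hk).trans hf
  · rw [Category.assoc, Category.assoc]
    exact congrArg Subtype.val hk'

theorem exists_equalize (p : GrothendieckTopology.Point.{u} J) {X U : C} (a b : X ⟶ U)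
    (x : p.fiber.obj X) (h : p.fiber.map a x = p.fiber.map b x) :
    ∃ (W : C) (e : W ⟶ X) (w : p.fiber.obj W), p.fiber.map e w = x ∧ e ≫ a = e ≫ b := by
  obtain ⟨⟨W, w⟩, ⟨k, hk⟩, hk'⟩ := IsCofilteredOrEmpty.cone_maps
    (C := p.fiber.Elements) (X := ⟨X, x⟩) (Y := ⟨U, p.fiber.map a x⟩) (CategoryOfElements.homMk _ _ a rfl)
    (CategoryOfElements.homMk _ _ b h.symm)
  dsimp at k hk
  exact ⟨W, k, w, hk, congrArg Subtype.val hk'⟩

theorem map_map (p : GrothendieckTopology.Point.{u} J) {X Y Z : C} (f : X ⟶ Y) (g : Y ⟶ Z)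
    (x : p.fiber.obj X) : p.fiber.map g (p.fiber.map f x) = p.fiber.map (f ≫ g) x := by
  rw [Functor.map_comp]
  rfl

section Sheaf

variable (M : ι → GrpCat.{u + 1})

/-- The product of the skyscraper presheaves of the groups `M i`. -/
def skyPre : Cᵒᵖ ⥤ GrpCat.{u + 1} where
  obj U := GrpCat.of (∀ p : (Σ i, (Φ i).fiber.obj U.unop), M p.1)
  map h := GrpCat.ofHom (MonoidHom.mk' (fun g p => g ⟨p.1, (Φ p.1).fiber.map h.unop p.2⟩)
    (fun _ _ => rfl))
  map_id U := by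
    ext g p
    change g ⟨p.1, (Φ p.1).fiber.map (𝟙 U.unop) p.2⟩ = g p
    rw [CategoryTheory.Functor.map_id]
    rfl
  map_comp h k := by
    ext g p
    change g ⟨p.1, (Φ p.1).fiber.map (k.unop ≫ h.unop) p.2⟩ =
      g ⟨p.1, (Φ p.1).fiber.map h.unop ((Φ p.1).fiber.map k.unop p.2)⟩
    rw [Functor.map_comp]
    rfl

theorem skyPre_map {U V : C} (h : V ⟶ U) (g : (skyPre Φ M).obj (op U)) (i : ι)
    (t : (Φ i).fiber.obj V) :
    (skyPre Φ M).map h.op g ⟨i, t⟩ = g ⟨i, (Φ i).fiber.map h t⟩ := rfl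

theorem isSheaf_skyPre : Presheaf.IsSheaf J (skyPre Φ M) := by
  rw [Presheaf.isSheaf_iff_isSheaf_forget J (skyPre Φ M) (CategoryTheory.forget GrpCat.{u + 1}),
    isSheaf_iff_isSheaf_of_type]
  intro U S hS x hx
  rw [Presieve.compatible_iff_sieveCompatible] at hx
  choose V f hf t ht using fun p : (Σ i, (Φ i).fiber.obj U) =>
    (Φ p.1).jointly_surjective S hS p.2
  have key : ∀ {W : C} (g : W ⟶ U) (hg : S g) (p : Σ i, (Φ i).fiber.obj U)
      (w : (Φ p.1).fiber.obj W) (_ : (Φ p.1).fiber.map g w = p.2),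
      x (f p) (hf p) ⟨p.1, t p⟩ = x g hg ⟨p.1, w⟩ := by
    intro W g hg p w hw
    obtain ⟨W', e, e', w', he, he', hc⟩ :=
      exists_lift₂ (Φ p.1) (f p) g (t p) w ((ht p).trans hw.symm)
    have h1 := congrArg (fun z => z ⟨p.1, w'⟩) (hx (f p) e (hf p))
    have h2 := congrArg (fun z => z ⟨p.1, w'⟩) (hx g e' hg)
    have h3 : ∀ (a b : W' ⟶ U) (ha : S a) (hb : S b), a = b → x a ha = x b hb := by
      rintro a b ha hb rfl
      rfl
    rw [h3 _ _ _ (S.downward_closed hg e') hc] at h1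
    refine Eq.trans ?_ (h1.symm.trans (h2.trans ?_))
    · change _ = x (f p) (hf p) ⟨p.1, (Φ p.1).fiber.map e w'⟩
      rw [he]
    · change x g hg ⟨p.1, (Φ p.1).fiber.map e' w'⟩ = _
      rw [he']
  refine ⟨fun p => x (f p) (hf p) ⟨p.1, t p⟩, fun W g hg => ?_, fun y hy => ?_⟩
  · funext ⟨i, w⟩
    exact key g hg ⟨i, _⟩ w rfl
  · funext p
    have := congrArg (fun z => z ⟨p.1, t p⟩) (hy (f p) (hf p))
    change y ⟨p.1, (Φ p.1).fiber.map (f p) (t p)⟩ = _ at this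
    rwa [ht p] at this

/-- The product of the skyscraper sheaves of the groups `M i`. -/
def sky : Sheaf J GrpCat.{u + 1} := ⟨skyPre Φ M, isSheaf_skyPre Φ M⟩

theorem hasSection_over {U : C} (P : NonAbH1.Torsor ((sky Φ M).over U)) : P.HasSection := by
  have hP := P.isTorsor.1
  have init : ∀ (i : ι) (t₀ : (Φ i).fiber.obj U), ∃ (W₀ : Over U)
      (tc : (Φ i).fiber.obj W₀.left),
      Nonempty (P.P.obj.obj (op W₀)) ∧ (Φ i).fiber.map W₀.hom tc = t₀ := by
    intro i t₀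
    obtain ⟨S, hS, hS'⟩ := P.isTorsor.2 (Over.mk (𝟙 U))
    rw [GrothendieckTopology.mem_over_iff] at hS
    obtain ⟨V, f, hf, t, ht⟩ := (Φ i).jointly_surjective _ hS t₀
    rw [Sieve.overEquiv_iff] at hf
    refine ⟨Over.mk (f ≫ 𝟙 U), t, hS' _ hf, ?_⟩
    change (Φ i).fiber.map (f ≫ 𝟙 U) t = t₀
    erw [Category.comp_id]
    exact ht
  choose W₀ tc hne hpi using init
  let p₀ : ∀ i t₀, P.P.obj.obj (op (W₀ i t₀)) := fun i t₀ => (hne i t₀).some
  let IsNorm : ∀ {W : Over U}, P.P.obj.obj (op W) → Prop := fun {W} p =>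
    ∀ (i : ι) (t₀ : (Φ i).fiber.obj U) (W' : Over U) (a : W' ⟶ W) (b : W' ⟶ W₀ i t₀)
      (w : (Φ i).fiber.obj W'.left), (Φ i).fiber.map b.left w = tc i t₀ →
      div hP (P.P.obj.map a.op p) (P.P.obj.map b.op (p₀ i t₀)) ⟨i, w⟩ = 1
  have norm_res : ∀ {W V : Over U} (k : V ⟶ W) (p : P.P.obj.obj (op W)),
      IsNorm p → IsNorm (P.P.obj.map k.op p) := by
    intro W V k p hp i t₀ W' a b w hw
    rw [← map_comp_apply]
    exact hp i t₀ W' (a ≫ k) b w hw
  have data : ∀ (W : Over U) (i : ι) (t : (Φ i).fiber.obj W.left),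
      ∃ (W' : Over U) (a : W' ⟶ W) (b : W' ⟶ W₀ i ((Φ i).fiber.map W.hom t))
        (w : (Φ i).fiber.obj W'.left),
        (Φ i).fiber.map a.left w = t ∧ (Φ i).fiber.map b.left w = tc i _ := by
    intro W i t
    obtain ⟨V, e, f, w, he, hf, hc⟩ := exists_lift₂ (Φ i) W.hom
      (W₀ i ((Φ i).fiber.map W.hom t)).hom t (tc i _) (hpi i _).symm
    exact ⟨Over.mk (e ≫ W.hom), Over.homMk e rfl, Over.homMk f hc.symm, w, he, hf⟩
  have indep : ∀ {W : Over U} (p : P.P.obj.obj (op W)) (i : ι) (t₀ : (Φ i).fiber.obj U)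
      (W₁ W₂ : Over U) (a₁ : W₁ ⟶ W) (a₂ : W₂ ⟶ W) (b₁ : W₁ ⟶ W₀ i t₀) (b₂ : W₂ ⟶ W₀ i t₀)
      (w₁ : (Φ i).fiber.obj W₁.left) (w₂ : (Φ i).fiber.obj W₂.left),
      (Φ i).fiber.map a₁.left w₁ = (Φ i).fiber.map a₂.left w₂ →
      (Φ i).fiber.map b₁.left w₁ = (Φ i).fiber.map b₂.left w₂ →
      div hP (P.P.obj.map a₁.op p) (P.P.obj.map b₁.op (p₀ i t₀)) ⟨i, w₁⟩ =
        div hP (P.P.obj.map a₂.op p) (P.P.obj.map b₂.op (p₀ i t₀)) ⟨i, w₂⟩ := by
    intro W p i t₀ W₁ W₂ a₁ a₂ b₁ b₂ w₁ w₂ ha hb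
    obtain ⟨V, e₁, e₂, v, h₁, h₂, hc⟩ := exists_lift₂ (Φ i) a₁.left a₂.left w₁ w₂ ha
    obtain ⟨V', k, v', hk, hk'⟩ := exists_equalize (Φ i) (e₁ ≫ b₁.left) (e₂ ≫ b₂.left) v (by
      rw [← map_map, ← map_map, h₁, h₂]; exact hb)
    let d₁ : Over.mk ((k ≫ e₁) ≫ W₁.hom) ⟶ W₁ := Over.homMk (k ≫ e₁) rfl
    let d₂ : Over.mk ((k ≫ e₁) ≫ W₁.hom) ⟶ W₂ := Over.homMk (k ≫ e₂) (by
      change (k ≫ e₂) ≫ W₂.hom = (k ≫ e₁) ≫ W₁.hom
      rw [← Over.w a₁, ← Over.w a₂, Category.assoc, Category.assoc, ← Category.assoc e₁,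
        ← Category.assoc e₂, hc])
    have ea : d₁ ≫ a₁ = d₂ ≫ a₂ := Over.OverMorphism.ext (by
      change (k ≫ e₁) ≫ a₁.left = (k ≫ e₂) ≫ a₂.left
      rw [Category.assoc, hc, Category.assoc])
    have eb : d₁ ≫ b₁ = d₂ ≫ b₂ := Over.OverMorphism.ext (by
      change (k ≫ e₁) ≫ b₁.left = (k ≫ e₂) ≫ b₂.left
      rw [Category.assoc, hk', Category.assoc])
    have R : ∀ {W₁ T : Over U} (d : T ⟶ W₁) (a : W₁ ⟶ W) (v' : (Φ i).fiber.obj T.left)
        (b : W₁ ⟶ W₀ i t₀) (w : (Φ i).fiber.obj W₁.left), (Φ i).fiber.map d.left v' = w →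
        div hP (P.P.obj.map a.op p) (P.P.obj.map b.op (p₀ i t₀)) ⟨i, w⟩ =
          div hP (P.P.obj.map (d ≫ a).op p) (P.P.obj.map (d ≫ b).op (p₀ i t₀)) ⟨i, v'⟩ := by
      intro W₁ T d a v' b w hw
      have : ((sky Φ M).over U).obj.map d.op
          (div hP (P.P.obj.map a.op p) (P.P.obj.map b.op (p₀ i t₀))) =
          div hP (P.P.obj.map (d ≫ a).op p) (P.P.obj.map (d ≫ b).op (p₀ i t₀)) := by
        refine smul_cancel hP (p := P.P.obj.map (d ≫ b).op (p₀ i t₀)) ?_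
        rw [div_smul, map_comp_apply P.toGSheaf b d, ← P.map_smul, div_smul, map_comp_apply]
      rw [← this, ← hw]
      rfl
    rw [R d₁ a₁ v' b₁ w₁ ?_, R d₂ a₂ v' b₂ w₂ ?_, ea, eb]
    · change (Φ i).fiber.map (k ≫ e₂) v' = w₂
      rw [← map_map, hk, h₂]
    · change (Φ i).fiber.map (k ≫ e₁) v' = w₁
      rw [← map_map, hk, h₁]
  have norm_exists : ∀ {W : Over U} (p : P.P.obj.obj (op W)),
      ∃ q : P.P.obj.obj (op W), IsNorm q := by
    intro W p
    choose W' a b w haw hbw using fun q : (Σ i, (Φ i).fiber.obj W.left) => data W q.1 q.2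
    let g : ((sky Φ M).over U).obj.obj (op W) := fun q =>
      (div hP (P.P.obj.map (a q).op p) (P.P.obj.map (b q).op (p₀ q.1 _)) ⟨q.1, w q⟩)⁻¹
    refine ⟨P.smul g p, fun i t₀ V c d v hv => ?_⟩
    have e : t₀ = (Φ i).fiber.map W.hom ((Φ i).fiber.map c.left v) := by
      rw [map_map, Over.w c, ← Over.w d, ← map_map, hv, hpi]
    subst e
    have e' : div hP (P.P.obj.map c.op (P.smul g p)) (P.P.obj.map d.op (p₀ i _)) =
        ((sky Φ M).over U).obj.map c.op g *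
          div hP (P.P.obj.map c.op p) (P.P.obj.map d.op (p₀ i _)) := by
      refine smul_cancel hP (p := P.P.obj.map d.op (p₀ i _)) ?_
      rw [div_smul, P.mul_smul, div_smul, P.map_smul]
    rw [e']
    change g ⟨i, (Φ i).fiber.map c.left v⟩ *
      div hP (P.P.obj.map c.op p) (P.P.obj.map d.op (p₀ i _)) ⟨i, v⟩ = 1
    rw [indep p i _ V (W' ⟨i, (Φ i).fiber.map c.left v⟩) c (a _) d (b _) v
      (w ⟨i, (Φ i).fiber.map c.left v⟩) (haw ⟨i, (Φ i).fiber.map c.left v⟩).symm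
      (hv.trans (hbw ⟨i, (Φ i).fiber.map c.left v⟩).symm)]
    exact inv_mul_cancel _
  have norm_unique : ∀ {W : Over U} (p q : P.P.obj.obj (op W)), IsNorm p → IsNorm q → p = q := by
    intro W p q hp hq
    have : div hP q p = 1 := by
      funext ⟨i, t⟩
      obtain ⟨W', a, b, w, haw, hbw⟩ := data W i t
      have e : div hP (P.P.obj.map a.op q) (P.P.obj.map b.op (p₀ i _)) =
          ((sky Φ M).over U).obj.map a.op (div hP q p) *
            div hP (P.P.obj.map a.op p) (P.P.obj.map b.op (p₀ i _)) := by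
        refine smul_cancel hP (p := P.P.obj.map b.op (p₀ i _)) ?_
        rw [div_smul, P.mul_smul, div_smul, ← P.map_smul, div_smul]
      have := congrArg (fun z => z ⟨i, w⟩) e
      change _ = div hP q p ⟨i, (Φ i).fiber.map a.left w⟩ *
        div hP (P.P.obj.map a.op p) (P.P.obj.map b.op (p₀ i _)) ⟨i, w⟩ at this
      rw [hq i _ W' a b w hbw, hp i _ W' a b w hbw, mul_one, haw] at this
      exact this.symm
    exact ((congrArg (fun g => P.smul g p) this).trans (P.one_smul p)).symm.trans (div_smul hP q p)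
  have H : ∀ W : Over U, ∃ s : P.P.obj.obj (op W),
      ∀ ⦃V : Over U⦄ (k : V ⟶ W) (q : P.P.obj.obj (op V)), IsNorm q → P.P.obj.map k.op s = q := by
    intro W
    obtain ⟨s, hs⟩ := gsheaf_glue P.toGSheaf (sieveOf_mem P.isTorsor.2 W)
      (fun V k hk => (norm_exists hk.some).choose) (fun V V' k l hk =>
        norm_unique _ _ (norm_res l _ (norm_exists hk.some).choose_spec)
          (norm_exists ((sieveOf P.toGSheaf W).downward_closed hk l).some).choose_spec)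
    exact ⟨s, fun V k q hq => (hs k ⟨q⟩).trans (norm_unique _ _ (norm_exists (Nonempty.some ⟨q⟩)).choose_spec hq)⟩
  choose s hs using H
  refine ⟨fun W => s W.unop, fun {W W'} k => gsheaf_ext P.toGSheaf (sieveOf_mem P.isTorsor.2 W'.unop) ?_⟩
  rintro V e ⟨p⟩
  obtain ⟨q, hq⟩ := norm_exists p
  rw [hs W'.unop e q hq, ← hs W.unop (e ≫ k.unop) q hq, map_comp_apply]
  rfl

end Sheaf

theorem map_comp_grp (F : Sheaf J GrpCat.{u + 1}) {X Y Z : C} (f : Y ⟶ X) (k : Z ⟶ Y)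
    (g : F.obj.obj (op X)) :
    F.obj.map (k ≫ f).op g = F.obj.map k.op (F.obj.map f.op g) := by
  rw [op_comp, F.obj.map_comp]
  rfl

section Stalk

variable (F : Sheaf J GrpCat.{u + 1}) (p : GrothendieckTopology.Point.{u} J)

scoped instance forget_preservesFilteredColimitsOfSize_grp :
    PreservesFilteredColimitsOfSize.{u, u} (CategoryTheory.forget GrpCat.{u + 1}) :=
  preservesFilteredColimitsOfSize_shrink.{u, u + 1, u, u + 1} _

scoped instance hasColimit_stalk :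
    HasColimit ((CategoryOfElements.π p.fiber).op ⋙ F.obj) :=
  haveI : HasColimit (FinallySmall.fromFilteredFinalModel.{u} p.fiber.Elementsᵒᵖ ⋙
      (CategoryOfElements.π p.fiber).op ⋙ F.obj) :=
    ⟨⟨⟨_, GrpCat.FilteredColimits.colimitCoconeIsColimit.{u, u + 1} _⟩⟩⟩
  Functor.Final.hasColimit_of_comp (FinallySmall.fromFilteredFinalModel.{u} p.fiber.Elementsᵒᵖ)

/-- The stalk of a sheaf of groups. -/
noncomputable def stalk : GrpCat.{u + 1} :=
  colimit ((CategoryOfElements.π p.fiber).op ⋙ F.obj)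

/-- The germ of a section. -/
noncomputable def germ (U : C) (t : p.fiber.obj U) : F.obj.obj (op U) ⟶ stalk F p :=
  colimit.ι ((CategoryOfElements.π p.fiber).op ⋙ F.obj) (op ⟨U, t⟩)

theorem germ_w {U V : C} (h : V ⟶ U) (t : p.fiber.obj V) (g : F.obj.obj (op U)) :
    germ F p V t (F.obj.map h.op g) = germ F p U (p.fiber.map h t) g :=
  ConcreteCategory.congr_hom (colimit.w ((CategoryOfElements.π p.fiber).op ⋙ F.obj)
    (CategoryOfElements.homMk (F := p.fiber) ⟨V, t⟩ ⟨U, p.fiber.map h t⟩ h rfl).op) g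

theorem exists_of_germ_eq {U : C} (t : p.fiber.obj U) (g g' : F.obj.obj (op U))
    (h : germ F p U t g = germ F p U t g') :
    ∃ (V : C) (k : V ⟶ U) (v : p.fiber.obj V),
      p.fiber.map k v = t ∧ F.obj.map k.op g = F.obj.map k.op g' := by
  haveI : PreservesColimitsOfShape p.fiber.Elementsᵒᵖ (CategoryTheory.forget GrpCat.{u + 1}) :=
    FinallySmall.preservesColimitsOfShape_of_isFiltered.{u} _ _
  obtain ⟨K, a, b, hab⟩ := Concrete.colimit_exists_of_rep_eq
    ((CategoryOfElements.π p.fiber).op ⋙ F.obj) (i := op ⟨U, t⟩) (j := op ⟨U, t⟩) g g' h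
  obtain ⟨⟨V, v⟩, k, hk, hk'⟩ : ∃ (W : p.fiber.Elements) (c : W ⟶ K.unop)
      (_ : c ≫ a.unop = c ≫ b.unop), True :=
    ⟨_, IsCofiltered.eqHom a.unop b.unop, IsCofiltered.eq_condition _ _, trivial⟩
  refine ⟨V, (k ≫ a.unop).1, v, (k ≫ a.unop).2, ?_⟩
  have := congrArg (F.obj.map k.1.op) hab
  refine Eq.trans ?_ (this.trans ?_)
  · exact map_comp_grp F a.unop.1 k.1 g
  · rw [hk]
    exact (map_comp_grp F b.unop.1 k.1 g').symm

/-- The map to the product of the skyscrapers of the stalks. -/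
noncomputable def toSky : F ⟶ sky Φ (fun i => stalk F (Φ i)) :=
  ⟨{ app := fun U => GrpCat.ofHom
      (MonoidHom.mk' (fun g q => germ F (Φ q.1) U.unop q.2 g) (fun g g' => funext fun q =>
        map_mul (germ F (Φ q.1) U.unop q.2).hom g g'))
     naturality := fun U V h => by
      ext g
      funext q
      exact germ_w F (Φ q.1) h.unop q.2 g }⟩

theorem toSky_injective (U : Cᵒᵖ)
    (hΦ : ∀ (S : Sieve U.unop), (∀ (i : ι) (t : (Φ i).fiber.obj U.unop), ∃ (V : C) (k : V ⟶ U.unop)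
      (v : (Φ i).fiber.obj V), S k ∧ (Φ i).fiber.map k v = t) → S ∈ J U.unop) :
    Function.Injective ((toSky Φ F).hom.app U) := by
  intro g g' e
  let S : Sieve U.unop :=
    { arrows := fun V k => F.obj.map k.op g = F.obj.map k.op g'
      downward_closed := fun {V W f} hf k => by
        rw [map_comp_grp F f k g, map_comp_grp F f k g', hf] }
  refine grp_ext (S := S) (hΦ S fun i t => ?_) (fun V k hk => hk)
  obtain ⟨V, k, v, hv, hk⟩ := exists_of_germ_eq F (Φ i) t g g' (congrFun e ⟨i, t⟩)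
  exact ⟨V, k, v, hk, hv⟩

end Stalk

end H18NAH1.Godement
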