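import Groth.Agent.H18NAH1.Basic
import Mathlib.Logic.Small.Basic

/-!
# The torsor attached to a 1-cocycle on a family covering the site

Sections over `X` are the families of coordinates `ev f i a ∈ G(V)` for all `f : V ⟶ X`, `a : V ⟶ U i`
which transform by the cocycle; this type is `w`-small since it is a pseudo-torsor under `G(X)`.
-/

universe w' w v u

open CategoryTheory Opposite

namespace H18NAH1

variable {C : Type u} [Category.{v} C] {J : GrothendieckTopology C} {G : Sheaf J GrpCat.{w}}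
  {I : Type w'} {U : I → C} (γ : PresheafOfGroups.OneCocycle G.obj U)

/-- Families of coordinates with respect to the cocycle `γ`. -/
@[ext]
structure Fam (X : C) where
  /-- the coordinate -/
  ev : ∀ ⦃V : C⦄ (_ : V ⟶ X) (i : I) (_ : V ⟶ U i), G.obj.obj (op V)
  ev_precomp : ∀ ⦃V W : C⦄ (k : W ⟶ V) (f : V ⟶ X) (i : I) (a : V ⟶ U i),
    G.obj.map k.op (ev f i a) = ev (k ≫ f) i (k ≫ a)
  ev_trans : ∀ ⦃V : C⦄ (f : V ⟶ X) (i j : I) (a : V ⟶ U i) (b : V ⟶ U j),
    ev f i a * γ.ev i j a b = ev f j b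

variable {γ}

theorem grp_map_comp {X Y Z : C} (f : Y ⟶ X) (k : Z ⟶ Y) (g : G.obj.obj (op X)) :
    G.obj.map (k ≫ f).op g = G.obj.map k.op (G.obj.map f.op g) := by
  rw [op_comp, G.obj.map_comp]
  rfl

/-- The action of the group on families. -/
def Fam.smul {X : C} (g : G.obj.obj (op X)) (p : Fam γ X) : Fam γ X where
  ev V f i a := G.obj.map f.op g * p.ev f i a
  ev_precomp V W k f i a := by rw [map_mul, p.ev_precomp, grp_map_comp]
  ev_trans V f i j a b := by rw [mul_assoc, p.ev_trans]

/-- Restriction of families. -/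
def Fam.res {X Y : C} (h : Y ⟶ X) (p : Fam γ X) : Fam γ Y where
  ev V f i a := p.ev (f ≫ h) i a
  ev_precomp V W k f i a := by rw [p.ev_precomp, Category.assoc]
  ev_trans V f i j a b := p.ev_trans _ i j a b

theorem Fam.res_id {X : C} (p : Fam γ X) : p.res (𝟙 X) = p := by
  ext V f i a
  simp [Fam.res]

theorem Fam.res_comp {X Y Z : C} (h : Y ⟶ X) (k : Z ⟶ Y) (p : Fam γ X) :
    p.res (k ≫ h) = (p.res h).res k := by
  ext V f i a
  simp [Fam.res, Category.assoc]

variable (γ) in
/-- The family of the tautological section over an object mapping to `U i`. -/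
def Fam.of {X : C} (i : I) (c : X ⟶ U i) : Fam γ X where
  ev V f j b := γ.ev i j (f ≫ c) b
  ev_precomp V W k f j b := by rw [γ.toOneCochain.ev_precomp, Category.assoc]
  ev_trans V f j k a b := γ.ev_trans i j k _ a b

theorem Fam.one_smul {X : C} (p : Fam γ X) : Fam.smul 1 p = p := by
  ext V f i a
  simp [Fam.smul]

theorem Fam.mul_smul {X : C} (g h : G.obj.obj (op X)) (p : Fam γ X) :
    Fam.smul (g * h) p = Fam.smul g (Fam.smul h p) := by
  ext V f i a
  simp [Fam.smul, _root_.mul_assoc]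

theorem Fam.res_smul {X Y : C} (h : Y ⟶ X) (g : G.obj.obj (op X)) (p : Fam γ X) :
    (Fam.smul g p).res h = Fam.smul (G.obj.map h.op g) (p.res h) := by
  ext V f i a
  simp only [Fam.smul, Fam.res]
  rw [grp_map_comp]

variable (hU : J.CoversTop U)

include hU in
theorem Fam.existsUnique_smul {X : C} (p q : Fam γ X) :
    ∃! g : G.obj.obj (op X), Fam.smul g p = q := by
  have indep : ∀ {V : C} (f : V ⟶ X) {i j : I} (a : V ⟶ U i) (b : V ⟶ U j),
      q.ev f i a * (p.ev f i a)⁻¹ = q.ev f j b * (p.ev f j b)⁻¹ := by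
    intro V f i j a b
    rw [← p.ev_trans f i j a b, ← q.ev_trans f i j a b]
    simp [mul_inv_rev, _root_.mul_assoc]
  obtain ⟨g, hg⟩ := grp_glue (G := G) (hU X)
    (fun V f hf => q.ev f hf.choose hf.choose_spec.some *
      (p.ev f hf.choose hf.choose_spec.some)⁻¹) (by
    intro V W f k hf
    rw [map_mul, map_inv, q.ev_precomp, p.ev_precomp]
    exact indep _ _ _)
  refine ⟨g, ?_, fun g' hg' => grp_ext (hU X) ?_⟩
  · ext V f i a
    change G.obj.map f.op g * p.ev f i a = _
    rw [hg f ⟨i, ⟨a⟩⟩, indep f _ a, inv_mul_cancel_right]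
  · rintro V f ⟨i, ⟨a⟩⟩
    rw [hg f ⟨i, ⟨a⟩⟩, indep f _ a, eq_mul_inv_iff_mul_eq, ← hg']
    rfl

include hU in
theorem Fam.small (X : C) : Small.{w} (Fam γ X) := by
  rcases isEmpty_or_nonempty (Fam γ X) with h | ⟨⟨p⟩⟩
  · exact small_subsingleton _
  · exact small_of_surjective (f := fun g => Fam.smul g p)
      (fun q => (Fam.existsUnique_smul hU p q).exists)

theorem Fam.ext_of_sieve {X : C} {S : Sieve X} (hS : S ∈ J X) {p q : Fam γ X}
    (h : ∀ ⦃V : C⦄ (f : V ⟶ X), S f → p.res f = q.res f) : p = q := by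
  ext V f i a
  refine grp_ext (J.pullback_stable f hS) (fun Z k hk => ?_)
  have e := congrArg (fun r : Fam γ Z => r.ev (𝟙 Z) i (k ≫ a)) (h (k ≫ f) hk)
  simp only [Fam.res, Category.id_comp] at e
  rw [p.ev_precomp, q.ev_precomp, e]

theorem Fam.glue {X : C} {S : Sieve X} (hS : S ∈ J X)
    (y : ∀ ⦃V : C⦄ (f : V ⟶ X), S f → Fam γ V)
    (hy : ∀ ⦃V W : C⦄ (f : V ⟶ X) (k : W ⟶ V) (hf : S f),
      (y f hf).res k = y (k ≫ f) (S.downward_closed hf k)) :
    ∃ p : Fam γ X, ∀ ⦃V : C⦄ (f : V ⟶ X) (hf : S f), p.res f = y f hf := by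
  have congr_y : ∀ {V : C} (f f' : V ⟶ X) (e : f = f') (hf : S f) (i : I) (a a' : V ⟶ U i)
      (_ : a = a'), (y f hf).ev (𝟙 V) i a = (y f' (e ▸ hf)).ev (𝟙 V) i a' := by
    rintro V f f' rfl hf i a a' rfl
    rfl
  have H : ∀ ⦃V : C⦄ (f : V ⟶ X) (i : I) (a : V ⟶ U i), ∃ g : G.obj.obj (op V),
      ∀ ⦃Z : C⦄ (k : Z ⟶ V) (hk : S (k ≫ f)),
        G.obj.map k.op g = (y (k ≫ f) hk).ev (𝟙 Z) i (k ≫ a) := by
    intro V f i a
    exact grp_glue (G := G) (J.pullback_stable f hS)
      (fun Z k hk => (y (k ≫ f) hk).ev (𝟙 Z) i (k ≫ a)) (by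
        intro Z Z' k l hk
        change S (k ≫ f) at hk
        rw [(y (k ≫ f) hk).ev_precomp,
          congr_y ((l ≫ k) ≫ f) (l ≫ k ≫ f) (Category.assoc _ _ _) _ i ((l ≫ k) ≫ a) (l ≫ k ≫ a)
            (Category.assoc _ _ _), ← hy (k ≫ f) l hk]
        simp [Fam.res])
  choose e he using H
  let p : Fam γ X :=
    { ev := e
      ev_precomp := by
        intro V W k₀ f i a
        refine grp_ext (J.pullback_stable (k₀ ≫ f) hS) (fun Z k hk => ?_)
        change S (k ≫ k₀ ≫ f) at hk
        rw [← grp_map_comp, he f i a (k ≫ k₀) (by rwa [Category.assoc]),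
          he (k₀ ≫ f) i (k₀ ≫ a) k hk]
        exact congr_y _ _ (Category.assoc _ _ _) _ i _ _ (Category.assoc _ _ _)
      ev_trans := by
        intro V f i j a b
        refine grp_ext (J.pullback_stable f hS) (fun Z k hk => ?_)
        change S (k ≫ f) at hk
        rw [map_mul, he f i a k hk, he f j b k hk, γ.toOneCochain.ev_precomp,
          (y (k ≫ f) hk).ev_trans] }
  refine ⟨p, fun V h hh => ?_⟩
  ext W f i a
  change e (f ≫ h) i a = _
  have := he (f ≫ h) i a (𝟙 W) (by simpa using S.downward_closed hh f)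
  rw [op_id, G.obj.map_id, congr_y (𝟙 W ≫ f ≫ h) (f ≫ h) (Category.id_comp _) _ i (𝟙 W ≫ a) a
    (Category.id_comp _), ← hy h f hh] at this
  simpa [Fam.res] using this

variable (γ) in
include hU in
/-- Every cocycle on a covering family is the cocycle of sections of a torsor. -/
theorem exists_torsor_isCocycleOf : ∃ (P : NonAbH1.Torsor G) (s : ∀ i, P.P.obj.obj (op (U i))),
    P.IsCocycleOf U s γ := by
  haveI : ∀ X : C, Small.{w} (Fam γ X) := Fam.small hU
  let F : Cᵒᵖ ⥤ Type w :=
    { obj := fun X => Shrink.{w} (Fam γ X.unop)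
      map := fun h => ↾(fun p => equivShrink _ (((equivShrink _).symm p).res h.unop))
      map_id := fun X => by
        ext p
        simp [Fam.res_id]
      map_comp := fun h k => by
        ext p
        simp [Fam.res_comp] }
  have hmap : ∀ {X Y : C} (h : Y ⟶ X) (p : F.obj (op X)),
      (equivShrink _).symm (F.map h.op p) = ((equivShrink _).symm p).res h := fun h p =>
    (equivShrink _).symm_apply_apply _
  have hF : Presieve.IsSheaf J F := by
    intro X S hS x hx
    rw [Presieve.compatible_iff_sieveCompatible] at hx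
    obtain ⟨p, hp⟩ := Fam.glue hS (fun V f hf => (equivShrink _).symm (x f hf)) (by
      intro V W f k hf
      rw [hx f k hf, hmap])
    refine ⟨equivShrink _ p, fun V f hf => (equivShrink _).symm.injective ?_, fun q hq => ?_⟩
    · rw [hmap, Equiv.symm_apply_apply]
      exact hp f hf
    · apply (equivShrink _).symm.injective
      rw [Equiv.symm_apply_apply]
      refine Fam.ext_of_sieve hS (fun V f hf => ?_)
      rw [hp f hf, ← hq f hf, hmap]
  let Q : NonAbH1.GSheaf G :=
    { P := ⟨F, (isSheaf_iff_isSheaf_of_type _ _).2 hF⟩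
      smul := fun g p => equivShrink _ (Fam.smul g ((equivShrink _).symm p))
      one_smul := fun p => by simp [Fam.one_smul]
      mul_smul := fun g h p => by
        rw [Equiv.symm_apply_apply]
        exact congrArg _ (Fam.mul_smul g h _)
      map_smul := fun {X Y} h g p => by
        apply (equivShrink _).symm.injective
        refine (hmap h.unop _).trans ?_
        rw [Equiv.symm_apply_apply, Equiv.symm_apply_apply, Fam.res_smul]
        exact congrArg _ (hmap h.unop p).symm }
  refine ⟨⟨Q, fun X p q => ?_, fun X => ⟨_, hU X, ?_⟩⟩,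
    fun i => equivShrink _ (Fam.of γ i (𝟙 (U i))), fun i j T a b => ?_⟩
  · obtain ⟨g, hg, hu⟩ := Fam.existsUnique_smul hU ((equivShrink _).symm p)
      ((equivShrink _).symm q)
    refine ⟨g, ?_, fun g' hg' => hu g' ?_⟩
    · change equivShrink _ _ = q
      rw [hg, Equiv.apply_symm_apply]
    · change equivShrink _ _ = q at hg'
      rw [← hg', Equiv.symm_apply_apply]
  · rintro V f ⟨i, ⟨a⟩⟩
    exact ⟨equivShrink _ (Fam.of γ i a)⟩
  · apply (equivShrink _).symm.injective
    change (equivShrink _).symm (equivShrink _ (Fam.smul _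
      ((equivShrink _).symm (F.map b.op _)))) = (equivShrink _).symm (F.map a.op _)
    rw [Equiv.symm_apply_apply, hmap, hmap, Equiv.symm_apply_apply, Equiv.symm_apply_apply]
    ext V f k c
    simp only [Fam.smul, Fam.res, Fam.of, Category.comp_id]
    rw [γ.toOneCochain.ev_precomp, γ.ev_trans]

end H18NAH1
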